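import Groth.Agent.L28.AffGal.Embed
import Mathlib.NumberTheory.RamificationInertia.HilbertTheory
import Mathlib.RingTheory.Invariant.Basic
import Mathlib.FieldTheory.Finite.Basic
import Mathlib.NumberTheory.NumberField.Ideal.Basic
import Mathlib.FieldTheory.Galois.IsGaloisGroup

/-!
# Decomposition and inertia groups in Galois extensions of number fields
-/

set_option autoImplicit false
set_option linter.style.haveILetI false

open NumberField IsDedekindDomain
open scoped Pointwise

namespace Groth.L28.AffGal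

universe u

section

variable {K N : Type u} [Field K] [NumberField K] [Field N] [NumberField N] [Algebra K N] [IsGalois K N]
  (w : HeightOneSpectrum (RingOfIntegers K)) (P : Ideal (RingOfIntegers N)) [P.IsPrime]
  [P.LiesOver w.asIdeal]

attribute [local instance] Ideal.Quotient.field

include w in
/-- A decomposition group without inertia is commutative. -/
theorem mul_comm_of_inertia_eq_bot (hI : P.inertia (N ≃ₐ[K] N) = ⊥)
    (σ τ : N ≃ₐ[K] N) (hσ : σ • P = P) (hτ : τ • P = P) : σ * τ = τ * σ := by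
  haveI := w.isMaximal
  haveI : P.IsMaximal := ‹P.IsPrime›.isMaximal (Ideal.ne_bot_of_liesOver_of_ne_bot w.ne_bot P)
  haveI : Finite (RingOfIntegers N ⧸ P) := Ideal.finiteQuotientOfFreeOfNeBot _ (Ideal.ne_bot_of_liesOver_of_ne_bot w.ne_bot P)
  let f := Ideal.Quotient.stabilizerHom P w.asIdeal (N ≃ₐ[K] N)
  have hinj : Function.Injective f := by
    rw [← MonoidHom.ker_eq_bot_iff, Ideal.Quotient.ker_stabilizerHom, eq_bot_iff]
    intro g hg
    have h1 : (g : N ≃ₐ[K] N) ∈ P.inertia (N ≃ₐ[K] N) := Ideal.coe_mem_inertia.2 hg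
    rw [hI, Subgroup.mem_bot] at h1
    exact Subgroup.mem_bot.2 (Subtype.ext h1)
  have h := hinj (show f (⟨σ, hσ⟩ * ⟨τ, hτ⟩) = f (⟨τ, hτ⟩ * ⟨σ, hσ⟩) by
    rw [map_mul, map_mul]
    haveI : IsCyclic ((RingOfIntegers N ⧸ P) ≃ₐ[RingOfIntegers K ⧸ w.asIdeal] (RingOfIntegers N ⧸ P)) := inferInstance
    haveI := IsCyclic.isMulCommutative (α := (RingOfIntegers N ⧸ P) ≃ₐ[RingOfIntegers K ⧸ w.asIdeal] (RingOfIntegers N ⧸ P))
    exact IsMulCommutative.is_comm.comm _ _)
  exact congrArg Subtype.val h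

/-- The decomposition field embeds in the completion. -/
theorem nonempty_algHom_decompositionField :
    Nonempty (FixedPoints.intermediateField (F := K) (E := N) (MulAction.stabilizer (N ≃ₐ[K] N) P) →ₐ[K]
      w.adicCompletion K) := by
  haveI := w.isMaximal
  haveI : P.IsMaximal := ‹P.IsPrime›.isMaximal (Ideal.ne_bot_of_liesOver_of_ne_bot w.ne_bot P)
  haveI : FiniteDimensional K N := Module.Finite.of_restrictScalars_finite ℚ K N
  set Z := FixedPoints.intermediateField (F := K) (E := N) (MulAction.stabilizer (N ≃ₐ[K] N) P)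
  haveI : NumberField Z := NumberField.of_intermediateField Z
  let q : Ideal (RingOfIntegers Z) := P.under (RingOfIntegers Z)
  haveI : q.IsPrime := Ideal.IsPrime.under _ P
  haveI : q.LiesOver w.asIdeal := Ideal.LiesOver.tower_bot P q w.asIdeal
  have hq0 : q ≠ ⊥ := Ideal.ne_bot_of_liesOver_of_ne_bot w.ne_bot q
  haveI : q.IsMaximal := ‹q.IsPrime›.isMaximal hq0
  let Q : HeightOneSpectrum (RingOfIntegers Z) := ⟨q, inferInstance, hq0⟩
  haveI : Q.asIdeal.LiesOver w.asIdeal := ‹q.LiesOver w.asIdeal›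
  exact nonempty_algHom_of_degreeOne w Q
    (IsDecompositionField.ramificationIdx_eq (RingOfIntegers K) K N P Z (RingOfIntegers Z) q
      (p := w.asIdeal) w.ne_bot)
    (IsDecompositionField.inertiaDeg_eq (RingOfIntegers K) K N P Z (RingOfIntegers Z) q
      (p := w.asIdeal) w.ne_bot)

end

section

variable {K L N : Type u} [Field K] [NumberField K] [Field L] [NumberField L] [Field N] [NumberField N]
  [Algebra K L] [Algebra K N] [Algebra L N] [IsScalarTower K L N] [IsGalois K N]
  (w : HeightOneSpectrum (RingOfIntegers K)) (P : Ideal (RingOfIntegers N)) [P.IsPrime]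
  [P.LiesOver w.asIdeal]

theorem inertia_fixes
    (hram : ∀ Q : Ideal (RingOfIntegers L), Q.IsPrime → Q.LiesOver w.asIdeal →
      Q.ramificationIdx (RingOfIntegers K) = 1)
    (g : N ≃ₐ[K] N) (hg : g ∈ P.inertia (N ≃ₐ[K] N)) (x : L) :
    g (algebraMap L N x) = algebraMap L N x := by
  haveI := w.isMaximal
  haveI : FiniteDimensional K N := Module.Finite.of_restrictScalars_finite ℚ K N
  haveI : FiniteDimensional L N := Module.Finite.of_restrictScalars_finite ℚ L N
  haveI : IsGalois L N := IsGalois.tower_top_of_isGalois K L N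
  let Q : Ideal (RingOfIntegers L) := P.under (RingOfIntegers L)
  haveI : Q.IsPrime := Ideal.IsPrime.under _ P
  haveI : Q.LiesOver w.asIdeal := Ideal.LiesOver.tower_bot P Q w.asIdeal
  have hQ0 : Q ≠ ⊥ := Ideal.ne_bot_of_liesOver_of_ne_bot w.ne_bot Q
  haveI : Q.IsMaximal := ‹Q.IsPrime›.isMaximal hQ0
  haveI : IsGaloisGroup (N ≃ₐ[K] N) (RingOfIntegers K) (RingOfIntegers N) :=
    IsGaloisGroup.of_isFractionRing _ _ _ K N
  haveI : IsGaloisGroup (N ≃ₐ[L] N) (RingOfIntegers L) (RingOfIntegers N) :=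
    IsGaloisGroup.of_isFractionRing _ _ _ L N
  haveI : Finite (RingOfIntegers K ⧸ w.asIdeal) := Ideal.finiteQuotientOfFreeOfNeBot _ w.ne_bot
  haveI : Finite (RingOfIntegers L ⧸ Q) := Ideal.finiteQuotientOfFreeOfNeBot _ hQ0
  have hK : Nat.card (P.inertia (N ≃ₐ[K] N)) = P.ramificationIdx (RingOfIntegers K) := by
    rw [Ideal.card_inertia_eq_ramificationIdxIn (G := N ≃ₐ[K] N) w.asIdeal P,
      Ideal.ramificationIdxIn_eq_ramificationIdx w.asIdeal P (N ≃ₐ[K] N)]
  have hL : Nat.card (P.inertia (N ≃ₐ[L] N)) = P.ramificationIdx (RingOfIntegers L) := by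
    rw [Ideal.card_inertia_eq_ramificationIdxIn (G := N ≃ₐ[L] N) Q P,
      Ideal.ramificationIdxIn_eq_ramificationIdx Q P (N ≃ₐ[L] N)]
  have ht : P.ramificationIdx (RingOfIntegers K) = P.ramificationIdx (RingOfIntegers L) := by
    rw [Ideal.ramificationIdx_tower (R := RingOfIntegers K) Q P, hram Q inferInstance inferInstance, one_mul]
  let r : P.inertia (N ≃ₐ[L] N) → P.inertia (N ≃ₐ[K] N) := fun h => ⟨h.1.restrictScalars K, h.2⟩
  have hr : Function.Injective r := fun a b h =>
    Subtype.ext (AlgEquiv.ext fun y => AlgEquiv.congr_fun (congrArg Subtype.val h) y)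
  obtain ⟨h, hh⟩ := ((Nat.bijective_iff_injective_and_card r).2 ⟨hr, by rw [hK, hL, ht]⟩).2 ⟨g, hg⟩
  have hh' : h.1.restrictScalars K = g := congrArg Subtype.val hh
  rw [← hh']
  exact h.1.commutes x

end

end Groth.L28.AffGal
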