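import Groth.Agent.L11.NF.AdicHensel
import Groth.Agent.L11.NF.Places
import Mathlib.FieldTheory.PrimitiveElement
import Mathlib.RingTheory.Adjoin.PowerBasis
import Mathlib.FieldTheory.Minpoly.IsIntegrallyClosed
import Mathlib.RingTheory.RamificationInertia.Ramification
import Mathlib.RingTheory.RamificationInertia.Inertia

/-!
# A place of degree one gives an embedding into the completion
-/

set_option autoImplicit false
set_option linter.style.haveILetI false

open NumberField IsDedekindDomain Polynomial WithZero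

namespace Groth.L28.AffGal

universe u

variable {K Z : Type u} [Field K] [NumberField K] [Field Z] [NumberField Z] [Algebra K Z]
  (w : HeightOneSpectrum (RingOfIntegers K)) (q : HeightOneSpectrum (RingOfIntegers Z))
  [q.asIdeal.LiesOver w.asIdeal]

theorem mem_pow_iff_of_ram_one (he : q.asIdeal.ramificationIdx (RingOfIntegers K) = 1) (n : ℕ)
    (x : RingOfIntegers K) :
    algebraMap (RingOfIntegers K) (RingOfIntegers Z) x ∈ q.asIdeal ^ n ↔ x ∈ w.asIdeal ^ n := by
  have he' : w.asIdeal.ramificationIdx' q.asIdeal = 1 := by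
    rw [Ideal.ramificationIdx'_eq_ramificationIdx _ _ w.ne_bot, he]
  have h : algebraMap (RingOfIntegers Z) Z (algebraMap (RingOfIntegers K) (RingOfIntegers Z) x) =
      algebraMap K Z (algebraMap (RingOfIntegers K) K x) := by
    rw [← IsScalarTower.algebraMap_apply, ← IsScalarTower.algebraMap_apply]
  rw [← q.intValuation_le_pow_iff_mem, ← w.intValuation_le_pow_iff_mem,
    ← q.valuation_of_algebraMap (K := Z), ← w.valuation_of_algebraMap (K := K)]
  simp only [RingOfIntegers.coe_eq_algebraMap] at h ⊢
  rw [h, Groth.L11.Places.val_algebraMap w q, he', pow_one]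

include w in
theorem exists_sub_mem_pow (he : q.asIdeal.ramificationIdx (RingOfIntegers K) = 1)
    (hf : q.asIdeal.inertiaDeg (RingOfIntegers K) = 1) (n : ℕ) (y : RingOfIntegers Z) :
    ∃ x : RingOfIntegers K, y - algebraMap (RingOfIntegers K) (RingOfIntegers Z) x ∈ q.asIdeal ^ n := by
  haveI := w.isMaximal
  haveI := q.isMaximal
  have h1 : ∀ y : RingOfIntegers Z, ∃ x : RingOfIntegers K,
      y - algebraMap (RingOfIntegers K) (RingOfIntegers Z) x ∈ q.asIdeal := by
    intro y
    rw [Ideal.inertiaDeg_eq_of_isMaximal w.asIdeal q.asIdeal] at hf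
    letI : Field (RingOfIntegers K ⧸ w.asIdeal) := Ideal.Quotient.field _
    obtain ⟨r, hr⟩ := (finrank_eq_one_iff_of_nonzero' (1 : RingOfIntegers Z ⧸ q.asIdeal) one_ne_zero).1 hf
      (Ideal.Quotient.mk _ y)
    obtain ⟨x, rfl⟩ := Ideal.Quotient.mk_surjective r
    refine ⟨x, ?_⟩
    rw [← Ideal.Quotient.eq_zero_iff_mem, map_sub, ← hr, sub_eq_zero, Algebra.smul_def, mul_one]
    rfl
  induction n with
  | zero => exact ⟨0, by simp⟩
  | succ n ih =>
    obtain ⟨x, hx⟩ := ih
    obtain ⟨π, hπ, hπ'⟩ := SetLike.exists_of_lt (Ideal.pow_right_strictAnti w.asIdeal w.ne_bot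
      w.isMaximal.ne_top (Nat.lt_succ_self n))
    have hI : Ideal.span {algebraMap (RingOfIntegers K) (RingOfIntegers Z) π} ⊔ q.asIdeal ^ (n + 1) =
        q.asIdeal ^ n := by
      refine Ideal.eq_prime_pow_of_succ_lt_of_le q.ne_bot (lt_of_le_of_ne le_sup_right fun h => hπ' ?_)
        (sup_le ((Ideal.span_singleton_le_iff_mem _).2 ((mem_pow_iff_of_ram_one w q he n π).2 hπ))
          (Ideal.pow_le_pow_right (Nat.le_succ n)))
      exact (mem_pow_iff_of_ram_one w q he (n + 1) π).1
        (h ▸ Ideal.mem_sup_left (Ideal.mem_span_singleton_self _))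
    rw [← hI, Submodule.mem_sup] at hx
    obtain ⟨_, ha, b, hb, hab⟩ := hx
    obtain ⟨t, rfl⟩ := Ideal.mem_span_singleton'.1 ha
    obtain ⟨c, hc⟩ := h1 t
    refine ⟨x + c * π, ?_⟩
    have hmem : (t - algebraMap (RingOfIntegers K) (RingOfIntegers Z) c) *
        algebraMap (RingOfIntegers K) (RingOfIntegers Z) π + b ∈ q.asIdeal ^ (n + 1) := by
      refine add_mem ?_ hb
      rw [pow_succ']
      exact Ideal.mul_mem_mul hc ((mem_pow_iff_of_ram_one w q he n π).2 hπ)
    convert hmem using 1
    rw [map_add, map_mul]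
    linear_combination (hab.symm)

/-- An element of a power of the prime lands in the power of the maximal ideal of the completion. -/
theorem algebraMap_mem_maximalIdeal_pow (n : ℕ) {x : RingOfIntegers K} (hx : x ∈ w.asIdeal ^ n) :
    algebraMap (RingOfIntegers K) (w.adicCompletionIntegers K) x ∈
      IsLocalRing.maximalIdeal (w.adicCompletionIntegers K) ^ n := by
  have hle : w.asIdeal.map (algebraMap (RingOfIntegers K) (w.adicCompletionIntegers K)) ≤
      IsLocalRing.maximalIdeal (w.adicCompletionIntegers K) := by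
    rw [Ideal.map_le_iff_le_comap]
    intro y hy
    rw [Ideal.mem_comap, IsLocalRing.mem_maximalIdeal, mem_nonunits_iff,
      HeightOneSpectrum.adicCompletionIntegers.isUnit_iff_valued_eq_one]
    have hlt : w.valuation K (algebraMap (RingOfIntegers K) K y) < 1 :=
      (HeightOneSpectrum.valuation_lt_one_iff_mem w _).2 hy
    refine ne_of_lt ?_
    exact lt_of_eq_of_lt (HeightOneSpectrum.valuedAdicCompletion_eq_valuation' w _) hlt
  exact Ideal.pow_right_mono hle n (by rw [← Ideal.map_pow]; exact Ideal.mem_map_of_mem _ hx)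

include q in
/-- A place with trivial ramification and residue extension gives an embedding in the completion. -/
theorem nonempty_algHom_of_degreeOne (he : q.asIdeal.ramificationIdx (RingOfIntegers K) = 1)
    (hf : q.asIdeal.inertiaDeg (RingOfIntegers K) = 1) :
    Nonempty (Z →ₐ[K] w.adicCompletion K) := by
  haveI : FiniteDimensional K Z := Module.Finite.of_restrictScalars_finite ℚ K Z
  obtain ⟨α, hα⟩ := Field.exists_primitive_element K Z
  obtain ⟨d, hd0, hd⟩ := IsAlgebraic.exists_integral_multiple (R := 𝓞 K) (z := α)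
    ((IsFractionRing.isAlgebraic_iff (𝓞 K) K Z).2 (Algebra.IsAlgebraic.isAlgebraic α))
  have hgen : IntermediateField.adjoin K {d • α} = ⊤ := by
    rw [eq_top_iff, ← hα, IntermediateField.adjoin_simple_le_iff]
    have hd' : algebraMap (𝓞 K) K d ≠ 0 := RingOfIntegers.coe_ne_zero_iff.2 hd0
    have h := IntermediateField.smul_mem _ (x := (algebraMap (𝓞 K) K d)⁻¹)
      (IntermediateField.mem_adjoin_simple_self K (d • α))
    convert h using 1
    rw [← algebraMap_smul K d α, inv_smul_smul₀ hd']
  let pb : PowerBasis K Z :=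
    (IntermediateField.adjoin.powerBasis (Algebra.IsIntegral.isIntegral (R := K) (d • α))).map
      ((IntermediateField.equivOfEq hgen).trans IntermediateField.topEquiv)
  have hg : IsIntegral (𝓞 K) pb.gen := by simpa [pb] using hd
  let a : 𝓞 Z := ⟨pb.gen, isIntegral_trans _ hg⟩
  set g := minpoly (𝓞 K) pb.gen with hgdef
  have hga : g.aeval a = 0 := by
    apply RingOfIntegers.coe_injective
    rw [← aeval_algebraMap_apply, map_zero]
    exact minpoly.aeval _ _
  choose x hx using fun n => exists_sub_mem_pow w q he hf n a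
  set m := IsLocalRing.maximalIdeal (w.adicCompletionIntegers K)
  let ι := algebraMap (𝓞 K) (w.adicCompletionIntegers K)
  have hcau : ∀ {i j : ℕ}, i ≤ j → ι (x i) ≡ ι (x j) [SMOD (m ^ i • ⊤ :
      Submodule (w.adicCompletionIntegers K) (w.adicCompletionIntegers K))] := fun {i j} hij => by
    rw [SModEq.sub_mem, smul_eq_mul, Ideal.mul_top, ← map_sub]
    refine algebraMap_mem_maximalIdeal_pow w i ((mem_pow_iff_of_ram_one w q he i _).1 ?_)
    rw [map_sub]
    convert sub_mem (Ideal.pow_le_pow_right hij (hx j)) (hx i) using 1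
    ring
  obtain ⟨r, hr⟩ := IsPrecomplete.prec inferInstance hcau
  have h0 : g.eval₂ ι r = 0 := by
    refine IsHausdorff.haus (I := m) inferInstance _ fun n => ?_
    rw [SModEq.sub_mem, sub_zero, smul_eq_mul, Ideal.mul_top]
    have h1 : ι (x n) - r ∈ m ^ n := by
      simpa [SModEq.sub_mem] using hr n
    have h2 : g.eval (x n) ∈ w.asIdeal ^ n := by
      refine (mem_pow_iff_of_ram_one w q he n _).1 ?_
      have := Ideal.mem_of_dvd (I := q.asIdeal ^ n) (sub_dvd_eval_sub a
        (algebraMap (𝓞 K) (𝓞 Z) (x n)) (g.map (algebraMap (𝓞 K) (𝓞 Z)))) (hx n)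
      rwa [eval_map_algebraMap, hga, zero_sub, neg_mem_iff, eval_map_apply] at this
    have h3 := Ideal.mem_of_dvd (I := m ^ n) (sub_dvd_eval_sub (ι (x n)) r (g.map ι)) h1
    rw [eval_map_apply, eval_map] at h3
    have h5 := sub_mem (algebraMap_mem_maximalIdeal_pow w n h2) h3
    rwa [sub_sub_cancel] at h5
  refine ⟨pb.lift (r : w.adicCompletion K) ?_⟩
  rw [minpoly.isIntegrallyClosed_eq_field_fractions' K hg, aeval_map_algebraMap, aeval_def]
  have h4 := congrArg (algebraMap (w.adicCompletionIntegers K) (w.adicCompletion K)) h0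
  rw [hom_eval₂, map_zero] at h4
  exact h4

end Groth.L28.AffGal
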